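import Cfsg.Agent.H893.IF.EightM2
import Cfsg.Agent.H887.IF.K0c
import Cfsg.Agent.H887.IF.Cent
import Cfsg.Agent.H989.Fx.Cls
import Cfsg.Agent.H209.IF.Kill
import Cfsg.Agent.H75.Transfer
import Cfsg.Agent.H160.QFinal
import Cfsg.Agent.ClassicalGeometry.OrthSemiForms

/-!
# S5719, `PΩ₈⁻(q)`, `q` odd, `|A|` even: the cell modulo CLAIM 0 (helper893)

* `Claim0 Q` : CLAIM 0 for `E Q`;
* `eightM_of` : in `E Q`; `minus_four_of` : the cell.
-/

set_option autoImplicit false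
set_option linter.unusedSectionVars false
set_option linter.unusedVariables false

open Cfsg

namespace Cfsg.Agent.H893.IFE

open QuadraticMap Module Cfsg.Agent.LieClassical Cfsg.Agent.LieClassical.OrthCore Cfsg.Agent.LieClassical.OrthTrans
  Cfsg.Agent.LieClassical.OrthSimple Cfsg.Agent.H989.Gs.Gen Cfsg.Agent.H989.Fx Cfsg.Agent.H325.IF
  Cfsg.Agent.H160.QSpin Cfsg.Agent.H160.QDisc Cfsg.Agent.LieClassical.OrthForms
open Cfsg.Agent.UGT.U2.FOne.Orth (Four)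
open Cfsg.Agent.H209.Fxy
open Matrix (SpecialLinearGroup)

universe u v

variable {F : Type u} [Field F] {V : Type v} [AddCommGroup V] [Module F V] {Q : QuadraticForm F V}

/-- **CLAIM 0** for `T = E Q` -/
def Claim0 (Q : QuadraticForm F V) : Prop :=
  ∀ {A : Subgroup ↥(E Q)} {Γ : Subgroup (MulAut ↥(E Q))}, IF A Γ → ∀ t ∈ A, t * t = 1 →
    (finrank F (Vm t) = 2 ∨ finrank F (Vm t) + 2 = finrank F V) → False

theorem eightM_of [Fintype F] (hodd : Odd (Fintype.card F)) [FiniteDimensional F V] (hG : Good Q)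
    (hN : finrank F V = 8) (hm : ∀ g : ↥(E Q), ¬ ∀ v, ap g v = -v) [Finite ↥(E Q)] [IsSimpleGroup ↥(E Q)]
    (hc : Claim0 Q) {A : Subgroup ↥(E Q)} {Γ : Subgroup (MulAut ↥(E Q))} (h : IF A Γ)
    (hA : ∃ t ∈ A, orderOf t = 2) : False := by
  have h2 : (2 : F) ≠ 0 := Cfsg.Agent.H215.IFM.two_ne hodd
  have hfin : Finite V := Module.finite_of_finite F
  refine eightM_E hodd h2 hG hN hm h hA ?_ ?_ ?_ ?_
  · intro t ht htt hr
    refine hc h t ht htt ?_
    rw [hN]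
    omega
  · intro e₁ f₁ e₂ f₂ h4
    obtain ⟨K, i1, i2, hK, hφ⟩ := Cfsg.Agent.H887.IF.exists_phi0 h2 hG.nondeg h4 hN (by
      rintro e f hef ⟨a1, a2, a3, a4⟩ ⟨b1, b2, b3, b4⟩ v ⟨c1, c2, c3, c4⟩ c5 c6 hv
      exact hmin h2 hG hN hm h4 hef a1 a2 a3 a4 b1 b2 b3 b4 c1 c2 c3 c4 c5 c6 hv)
    refine ⟨K, i1, i2, ?_, hφ⟩
    rw [Nat.card_eq_fintype_card, Nat.card_eq_fintype_card] at hK
    exact hK
  · intro e₁ f₁ e₂ f₂ h4 g hg
    obtain ⟨N, k1, k2, k3, k4⟩ := Cfsg.Agent.H887.IF.cent1 h4 g hg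
    refine ⟨N, ?_⟩
    intro w hw
    have key : ap g w = ap (h4.swap.rhoE N) w := by
      rcases hw with rfl | rfl | rfl | rfl
      · exact k1
      · exact k2
      · exact k3
      · exact k4
    rw [ap_mul, key, ap_inv_ap]
  · intro z hz
    have h3 := cls_le h2 hG (by omega) (fund_mul_self hz) (finrank_Vm_of_fund h2 hz)
    rw [hN, Nat.card_eq_fintype_card] at h3
    exact h3

/-- the centre of `Ω` is trivial if `-1 ∉ Ω` -/
theorem center_bot (hG : Good Q) (hm : ∀ g : ↥(E Q), ¬ ∀ v, ap g v = -v) : Subgroup.center ↥(E Q) = ⊥ := by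
  rw [Subgroup.eq_bot_iff_forall]
  intro z hz
  obtain ⟨c, hc⟩ := Cfsg.Agent.ClassicalGeometry.OrthAut1.center_scalar hG hz
  obtain ⟨x, y, hxy⟩ := hG.exists_hyp
  have h1 : polar Q (ap z x) (ap z y) = 1 := by rw [polar_ap, hxy.pair]
  have h2 : ap z x = c • x := hc x
  have h3 : ap z y = c • y := hc y
  rw [h2, h3, polar_smul_left, polar_smul_right, hxy.pair, smul_eq_mul, smul_eq_mul, mul_one] at h1
  rcases mul_self_eq_one_iff.1 h1 with h4 | h4
  · apply ext_ap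
    intro v
    have h5 : ap z v = c • v := hc v
    rw [h5, h4, one_smul, ap_one]
  · exfalso
    apply hm z
    intro v
    have h5 : ap z v = c • v := hc v
    rw [h5, h4, neg_one_smul]

section cell

/-- `PΩ ≃ E Q` if `-1 ∉ Ω` -/
theorem exists_equiv {F : Type} [Field F] [Finite F] {ι : Type} [Fintype ι] [DecidableEq ι]
    {Q : QuadraticForm F (ι → F)} (hG : Good Q) (hm : ∀ g : ↥(E Q), ¬ ∀ v, ap g v = -v) :
    Nonempty (POmega F ⇑Q ≃* ↥(E Q)) := by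
  have h1 : (Cfsg.Agent.H75.OrthIdx.omHom hG).ker = ⊥ := by
    rw [Cfsg.Agent.H75.OrthIdx.omHom_ker, center_bot hG hm]
  exact ⟨(MulEquiv.ofBijective (Cfsg.Agent.H75.OrthIdx.omHom hG)
    ⟨(MonoidHom.ker_eq_bot_iff _).1 h1, Cfsg.Agent.H75.OrthIdx.omHom_surjective hG⟩).symm⟩

theorem killE_of_equiv {T T' : Type*} [Group T] [Group T'] (e : T ≃* T') (h : KillE T') : KillE T := by
  intro A Γ hA ⟨t, ht, ho⟩
  exact h _ _ (hA.map e) ⟨e t, ⟨t, ht, rfl⟩, by rw [MulEquiv.orderOf_eq e t, ho]⟩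

/-- **the cell `minus_mid`, `m = 4`**, modulo CLAIM 0 -/
theorem minus_four_of (F : Type) [Field F] [Fintype F] (a b : F) (hodd : Odd (Fintype.card F))
    (hab : ∀ z₁ z₂ : F, z₁ ^ 2 + a * z₁ * z₂ + b * z₂ ^ 2 = 0 → z₁ = 0 ∧ z₂ = 0)
    (hs : IsSimpleGroup (POmega F (quadFormMinus 3 F a b))) (hc : Claim0 (minusForm 3 F a b)) :
    KillE (POmega F (quadFormMinus 3 F a b)) := by
  classical
  have h2 : (2 : F) ≠ 0 := Cfsg.Agent.H215.IFM.two_ne hodd
  have hG : Good (minusForm 3 F a b) := Cfsg.Agent.ClassicalGeometry.OrthSemiForms.good_minus (F := F) (m := 3) (by omega) a b hab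
  have hN : finrank F ((Fin 3 ⊕ Fin 3) ⊕ Fin 2 → F) = 8 := by
    rw [Module.finrank_fintype_fun_eq_card]
    rfl
  have hm : ∀ g : ↥(E (minusForm 3 F a b)), ¬ ∀ v, ap g v = -v :=
    neg_notMem h2 hG (Cfsg.Agent.H160.QFinal.dc_minusForm h2 hab)
  rw [← coe_minusForm 3 F a b] at hs ⊢
  obtain ⟨e⟩ := exists_equiv hG hm
  have hfin : Finite (POmega F ⇑(minusForm 3 F a b)) := inferInstance
  have hfin2 : Finite ↥(E (minusForm 3 F a b)) := Finite.of_equiv _ e.toEquiv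
  have hs2 : IsSimpleGroup ↥(E (minusForm 3 F a b)) := (MulEquiv.isSimpleGroup_congr e).1 hs
  refine killE_of_equiv e ?_
  intro A Γ h hA
  exact eightM_of hodd hG hN hm hc h hA

end cell

end Cfsg.Agent.H893.IFE
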