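import Cfsg.Agent.H893.IF.EightP
import Cfsg.Agent.H893.IF.EightM3
import Cfsg.Agent.H601.IF.Ii
import Cfsg.Agent.H989.Fx.ClsP
import Cfsg.Agent.AutOrth.Main

/-!
# S5719, `PΩ₈⁺(q)`, `q` odd, `|A|` even: the cell modulo CLAIM 0, the model and helper709's theorem (helper893)
-/

set_option autoImplicit false
set_option linter.unusedSectionVars false
set_option linter.unusedVariables false

open Cfsg

namespace Cfsg.Agent.H893.IFE

open QuadraticMap Module Cfsg.Agent.LieClassical Cfsg.Agent.LieClassical.OrthCore Cfsg.Agent.LieClassical.OrthTrans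
  Cfsg.Agent.LieClassical.OrthSimple Cfsg.Agent.H989.Gs.Gen Cfsg.Agent.H989.Fx Cfsg.Agent.H325.IF
open Cfsg.Agent.UGT.U2.FOne.Orth (Four)
open Cfsg.Agent.H209.Fxy
open Cfsg.Agent.ClassicalGeometry.OrthAut1 (P center_scalar mem_center_of_scalar)
open Matrix (SpecialLinearGroup)

universe u v w

section mk

variable {F : Type u} [Field F] {V : Type v} [AddCommGroup V] [Module F V] {Q : QuadraticForm F V}

theorem mk_eq_one_iff (hG : Good Q) (g : ↥(E Q)) :
    QuotientGroup.mk' (Subgroup.center ↥(E Q)) g = 1 ↔ g = 1 ∨ ∀ v, ap g v = -v := by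
  rw [QuotientGroup.mk'_apply, QuotientGroup.eq_one_iff]
  constructor
  · intro hz
    obtain ⟨c, hc⟩ := center_scalar hG hz
    obtain ⟨x, y, hxy⟩ := hG.exists_hyp
    have h1 : polar Q (ap g x) (ap g y) = 1 := by rw [polar_ap, hxy.pair]
    have h2 : ap g x = c • x := hc x
    have h3 : ap g y = c • y := hc y
    rw [h2, h3, polar_smul_left, polar_smul_right, hxy.pair, smul_eq_mul, smul_eq_mul, mul_one] at h1
    rcases mul_self_eq_one_iff.1 h1 with h4 | h4
    · left
      apply ext_ap
      intro v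
      have h5 : ap g v = c • v := hc v
      rw [h5, h4, one_smul, ap_one]
    · right
      intro v
      have h5 : ap g v = c • v := hc v
      rw [h5, h4, neg_one_smul]
  · rintro (rfl | h)
    · exact one_mem _
    · refine mem_center_of_scalar (c := -1) fun v => ?_
      rw [neg_one_smul]
      exact h v

/-- **CLAIM 0** for `T = PΩ` -/
def Claim0P (Q : QuadraticForm F V) : Prop :=
  ∀ (A : Subgroup (P Q)) (Γ : Subgroup (MulAut (P Q))), IF A Γ → ∀ h : ↥(E Q), h * h = 1 →
    (finrank F (Vm h) = 2 ∨ finrank F (Vm h) + 2 = finrank F V) → (h : P Q) ∈ A → False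

end mk

section cell

variable (F : Type) [Field F]

theorem plusForm_eq' : OrthForms.plusForm 4 F = QuadForms.plusForm 4 F :=
  DFunLike.coe_injective ((OrthForms.coe_plusForm 4 F).trans (QuadForms.coe_plusForm 4).symm)

/-- **the cell `plus_mid`, `m = 4`**, modulo CLAIM 0, the model and helper709's theorem -/
theorem plus_four_of [Fintype F] (hodd : Odd (Fintype.card F))
    (hs : IsSimpleGroup (POmega F (quadFormPlus 4 F))) (hc : Claim0P (QuadForms.plusForm (F := F) 4))
    (h709 : EightPlus (P (QuadForms.plusForm (F := F) 4)) F)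
    (hmod : ∀ z : ↥(E (QuadForms.plusForm (F := F) 4)), Fund (QuadForms.plusForm (F := F) 4) z →
      ∃ f, Model8 (QuotientGroup.mk' (Subgroup.center ↥(E (QuadForms.plusForm (F := F) 4)))) z f) :
    KillE (POmega F (quadFormPlus 4 F)) := by
  have h2 : (2 : F) ≠ 0 := Cfsg.Agent.H215.IFM.two_ne hodd
  have hG : Good (QuadForms.plusForm (F := F) 4) := Cfsg.Agent.AutOrth.Main.good_plus (by omega)
  have hN : finrank F (Fin 4 ⊕ Fin 4 → F) = 8 := by
    rw [Module.finrank_fintype_fun_eq_card]
    rfl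
  rw [← QuadForms.coe_plusForm 4] at hs ⊢
  have e := Cfsg.Agent.ClassicalGeometry.OrthSemiForms.pomegaEquiv hG
  have hfin : Finite (POmega F ⇑(QuadForms.plusForm (F := F) 4)) := inferInstance
  have hfin2 : Finite (P (QuadForms.plusForm (F := F) 4)) := Finite.of_equiv _ e.toEquiv
  have hs2 : IsSimpleGroup (P (QuadForms.plusForm (F := F) 4)) := (MulEquiv.isSimpleGroup_congr e).1 hs
  refine killE_of_equiv (T' := P (QuadForms.plusForm (F := F) 4)) e ?_
  intro A Γ h hA
  have c0 : ∀ (A : Subgroup (P (QuadForms.plusForm (F := F) 4))) (Γ : Subgroup (MulAut (P (QuadForms.plusForm (F := F) 4)))),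
      IF A Γ → ∀ h : ↥(E (QuadForms.plusForm (F := F) 4)), h * h = 1 →
        (finrank F (Vm h) = 2 ∨ finrank F (Vm h) = 6) → (h : P (QuadForms.plusForm (F := F) 4)) ∈ A → False := by
    intro A Γ hI g hg hr hgA
    refine hc A Γ hI g hg ?_ hgA
    rw [hN]
    omega
  refine eightP_of h2 hG hN (QuotientGroup.mk' (Subgroup.center ↥(E (QuadForms.plusForm (F := F) 4))))
    (QuotientGroup.mk'_surjective _) (mk_eq_one_iff hG) h709 h hA ?_ ?_ hmod ?_
  · intro g hg hgg hr
    exact c0 A Γ h g hgg hr hg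
  · intro g hg hgg
    exact Cfsg.Agent.H601.OTri.ii_false h2 hG c0 h hgg hg
  · intro z hz
    have hT : Ty (QuadForms.plusForm (F := F) 4) 8 1 := by
      rw [← plusForm_eq']
      exact ty_plusForm 4
    have h3 := eight_plus_T h2 hG (QuotientGroup.mk' (Subgroup.center ↥(E (QuadForms.plusForm (F := F) 4))))
      (QuotientGroup.mk'_surjective _) (mk_eq_one_iff hG) hT hz
    rw [Nat.card_eq_fintype_card] at h3
    exact h3

end cell

end Cfsg.Agent.H893.IFE
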